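import Groth.Agent.Lib.ImTor21.Main
import Groth.Agent.Lib.CartanT21.Main
import Groth.Agent.Lib.AbRigid.FlatFibre
import Groth.Agent.Lib.AbRigid.SmoothGI
import Groth.Agent.Lib.MTExt21.Torus
import Groth.Agent.Lib.FppfDesc19.Basic
import Groth.Agent.Lib.MTRigid29.NormalCentral

/-!
# Maximal tori with the same image under a homomorphism with central kernel
-/

set_option autoImplicit false
set_option linter.style.haveILetI false
set_option linter.unusedSectionVars false
set_option backward.isDefEq.respectTransparency.types false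

universe u

open CategoryTheory Limits MonoidalCategory CartesianMonoidalCategory MonObj AlgebraicGeometry

noncomputable section

namespace Groth.Agent.CentMT21

open DiagGL MTRigid29

variable {S : Scheme.{u}} {G G' : Over S} [GrpObj G] [GrpObj G']

/-- The kernel of `u` is central, in the sense of points. -/
def CentralKer (u : G ⟶ G') : Prop :=
  ∀ (X : Over S) (z : X ⟶ G), z ≫ u = 1 → ∀ (X' : Over S) (x : X' ⟶ X) (g : X' ⟶ G), (x ≫ z) * g = g * (x ≫ z)

theorem centralKer_bc {u : G ⟶ G'} (h : CentralKer u) {U : Scheme.{u}} (π : U ⟶ S) :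
    CentralKer ((Over.pullback π).map u) := fun X z hz X' x g => by
  apply fl_injective π G
  rw [fl_mul, fl_mul, fl_comp]
  refine h _ (fl π G z) ?_ _ _ _
  rw [← fl_comp_map, hz, fl_one]

/-- A homomorphism surjective on geometric fibres is surjective. -/
theorem surjective_left_of_geom (u : G ⟶ G')
    (hu : ∀ s : S, Surjective ((Over.pullback (Red.geomPt s)).map u).left) : Surjective u.left := by
  refine ⟨fun y => ?_⟩
  let s := G'.hom y
  obtain ⟨y', hy', -⟩ := Scheme.Pullback.exists_preimage_pullback (f := G'.hom) (g := Red.geomPt s) y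
    (IsLocalRing.closedPoint _) (by
      show s = _
      show s = (Spec.map _ ≫ S.fromSpecResidueField s) _
      rw [Scheme.Hom.comp_apply]
      exact (Scheme.fromSpecResidueField_apply s _).symm)
  obtain ⟨x, hx⟩ := (hu s).surj y'
  refine ⟨pullback.fst G.hom (Red.geomPt s) x, ?_⟩
  rw [← Scheme.Hom.comp_apply, (isPullback_map_left (Red.geomPt s) u).w, Scheme.Hom.comp_apply, hx, hy']

theorem surjective_map_left (u : G ⟶ G') [Surjective u.left] {U : Scheme.{u}} (π : U ⟶ S) :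
    Surjective ((Over.pullback π).map u).left :=
  MorphismProperty.of_isPullback (isPullback_map_left π u) ‹_›

theorem flat_left_of_surjective (u : G ⟶ G') [IsMonHom u] [Flat G.hom] [LocallyOfFinitePresentation G.hom]
    [Smooth G'.hom] [Surjective u.left] : Flat u.left := by
  haveI := AbRigid.geometricallyReduced_of_smooth G'.hom
  exact AbRigid.flat_of_surjective_rel u

theorem quasiCompact_left (u : G ⟶ G') [QuasiCompact G.hom] [QuasiSeparated G'.hom] : QuasiCompact u.left := by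
  haveI : QuasiCompact (u.left ≫ G'.hom) := by rw [Over.w u]; infer_instance
  exact MorphismProperty.of_postcomp @QuasiCompact u.left G'.hom ‹QuasiSeparated G'.hom› ‹_›

variable {T T₁ T₂ T' : Over S} [GrpObj T] [GrpObj T₁] [GrpObj T₂] [GrpObj T']

/-- An inclusion of maximal tori is an isomorphism. -/
theorem isIso_of_le [LocallyOfFiniteType G.hom] {i₁ : T₁ ⟶ G} {i₂ : T₂ ⟶ G} (h₁ : Red.IsMaximalTorus i₁)
    (h₂ : Red.IsMaximalTorus i₂) (f : T₁ ⟶ T₂) (hf : f ≫ i₂ = i₁) : IsIso f := by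
  haveI := h₁.1
  haveI := h₂.1
  haveI := h₁.2.1
  haveI := h₂.2.1
  have hM₁ := TorPts21.isMultTypeFT_of_isTorus h₁.2.2.1
  have hM₂ := TorPts21.isMultTypeFT_of_isTorus h₂.2.2.1
  haveI := lfp_of_isMultTypeFT hM₁
  haveI := lfp_of_isMultTypeFT hM₂
  haveI := flat_of_isMultTypeFT hM₁
  haveI : Mono (f ≫ i₂) := by rw [hf]; infer_instance
  haveI : Mono f := mono_of_mono f i₂
  refine CartanT21.isIso_of_geom_fibres f fun s => ?_
  haveI := isMonHom_map i₂ (Red.geomPt s)
  haveI : Mono ((Over.pullback (Red.geomPt s)).map i₂) := Functor.map_mono _ _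
  exact h₁.2.2.2 s _ ((Over.pullback (Red.geomPt s)).map i₂) ((Over.pullback (Red.geomPt s)).map f)
    (MTExt21.isTorus_bc h₂.2.2.1 _) (by rw [← Functor.map_comp, hf])

variable [Smooth G.hom] [IsSeparated G.hom] [QuasiCompact G.hom] [IsSeparated G'.hom] [LocallyOfFiniteType G'.hom]

/-- A factorisation of the image of a maximal torus through a maximal torus is flat and surjective. -/
theorem flat_surjective_of_factor (u : G ⟶ G') [IsMonHom u] [Surjective u.left] {i : T ⟶ G}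
    (hT : Red.IsMaximalTorus i) {i' : T' ⟶ G'} (hT' : Red.IsMaximalTorus i') (v : T ⟶ T') (hv : v ≫ i' = i ≫ u) :
    IsMonHom v ∧ Flat v.left ∧ Surjective v.left := by
  haveI := hT.1
  haveI := hT'.1
  haveI := hT'.2.1
  refine ⟨MTExt21.isMonHom_of_comp' i' v (by rw [hv]; infer_instance), ?_⟩
  obtain ⟨T'', _, i'', v'', hT'', -, hv'', hs, hf⟩ :=
    ImTor21.exists_image_maxTorus u (fun s => surjective_map_left u _) i hT
  haveI := hs
  haveI := hf
  haveI := hT''.1
  haveI : Mono i'.left := Over.mono_left_of_mono i'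
  haveI := isAffineHom_of_isMT (isMT_of_ft (TorPts21.isMultTypeFT_of_isTorus hT''.2.2.1))
  haveI := isAffineHom_of_isMT (isMT_of_ft (TorPts21.isMultTypeFT_of_isTorus hT.2.2.1))
  haveI : QuasiCompact v''.left := quasiCompact_left v''
  obtain ⟨l, hl⟩ := FppfDesc19.exists_lift_of_cover v'' i' i'' v (by rw [hv'', hv])
  haveI := isIso_of_le hT'' hT' l hl
  have hvl : v = v'' ≫ l := (cancel_mono i').1 (by rw [hv, Category.assoc, hl, hv''])
  subst hvl
  haveI : IsIso l.left := inferInstanceAs (IsIso ((Over.forget S).map l))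
  exact ⟨by rw [Over.comp_left]; infer_instance, by rw [Over.comp_left]; infer_instance⟩

/-- Maximal tori with the same image under a homomorphism with central kernel are equal. -/
theorem eq_of_same_image (u : G ⟶ G') [IsMonHom u] [Surjective u.left] (hker : CentralKer u)
    {i₁ : T₁ ⟶ G} {i₂ : T₂ ⟶ G} {i' : T' ⟶ G'} (h₁ : Red.IsMaximalTorus i₁) (h₂ : Red.IsMaximalTorus i₂)
    (h' : Red.IsMaximalTorus i') {v₁ : T₁ ⟶ T'} {v₂ : T₂ ⟶ T'} (e₁ : v₁ ≫ i' = i₁ ≫ u) (e₂ : v₂ ≫ i' = i₂ ≫ u) :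
    ∃ φ : T₁ ≅ T₂, φ.hom ≫ i₂ = i₁ := by
  obtain ⟨hm, hf, hs⟩ := flat_surjective_of_factor u h₂ h' v₂ e₂
  haveI := hm
  haveI := hf
  haveI := hs
  haveI := isAffineHom_of_isMT (isMT_of_ft (TorPts21.isMultTypeFT_of_isTorus h'.2.2.1))
  haveI := isAffineHom_of_isMT (isMT_of_ft (TorPts21.isMultTypeFT_of_isTorus h₂.2.2.1))
  haveI : QuasiCompact v₂.left := quasiCompact_left v₂
  haveI := h₂.1
  haveI := h₁.1
  obtain ⟨C, _, c, hc, -, -, t₂, ht₂, -, huniq⟩ := CartanRel21.exists_centralizer_isCartan h₂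
  haveI := hc.1
  haveI := hc.2.1
  obtain ⟨t₁, ht₁⟩ := (hc.2.2 T₁ i₁).2 fun X x y => by
    obtain ⟨X', π, a, hπf, hπs, hπq, ha⟩ := FppfDesc19.exists_cover_lift v₂ (x ≫ v₁)
    haveI : Epi π.left := Flat.epi_of_flat_of_surjective _
    haveI : Epi π := Over.epi_of_epi_left _
    rw [← cancel_epi π, MonObj.comp_mul, MonObj.comp_mul]
    have hz : ((π ≫ x ≫ i₁) * (a ≫ i₂)⁻¹) ≫ u = 1 := by
      rw [MonObj.mul_comp, GrpObj.inv_comp, Category.assoc, Category.assoc, Category.assoc, ← e₂, ← e₁,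
        reassoc_of% ha, mul_inv_cancel]
    have h1 := hker X' _ hz X' (𝟙 X') (π ≫ y ≫ i₂)
    rw [Category.id_comp] at h1
    have h2 : (a ≫ i₂) * (π ≫ y ≫ i₂) = (π ≫ y ≫ i₂) * (a ≫ i₂) := by
      rw [← Category.assoc π y i₂, ← MonObj.mul_comp, ← MonObj.mul_comp,
        MTRigid29.commute_of_isMultTypeFT (TorPts21.isMultTypeFT_of_isTorus h₂.2.2.1) a]
    calc (π ≫ x ≫ i₁) * (π ≫ y ≫ i₂)
        = ((π ≫ x ≫ i₁) * (a ≫ i₂)⁻¹) * ((a ≫ i₂) * (π ≫ y ≫ i₂)) := by group
      _ = (((π ≫ x ≫ i₁) * (a ≫ i₂)⁻¹) * (π ≫ y ≫ i₂)) * (a ≫ i₂) := by rw [h2]; simp only [_root_.mul_assoc]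
      _ = (π ≫ y ≫ i₂) * (π ≫ x ≫ i₁) := by rw [h1]; group
  obtain ⟨φ, hφ⟩ := huniq T₁ t₁ (CartanT21.isMaximalTorus_factor c t₁ (by rwa [ht₁]))
  exact ⟨φ, by rw [← ht₂, ← Category.assoc, hφ, ht₁]⟩

end Groth.Agent.CentMT21
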