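import Groth.Agent.Lib.CentMT21.Cartan
import Groth.Agent.Lib.BorelFix21.Stabilizer
import Groth.Agent.Lib.AttrBorel21.BorelFacts
import Groth.Agent.Lib.AttrBorel21.BorelDisc
import Groth.Agent.Lib.Semiab15.Torus
import Groth.Agent.Lib.AttrBorel21.MaxTori
import Groth.Agent.Lib.FlatH4.SmoothFibres

/-!
# Preimages of subgroups containing Cartan subgroups under homomorphisms with central kernel
-/

set_option autoImplicit false
set_option linter.style.haveILetI false
set_option linter.unusedSectionVars false
set_option backward.isDefEq.respectTransparency.types false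

universe u

open CategoryTheory Limits MonoidalCategory CartesianMonoidalCategory MonObj AlgebraicGeometry Opposite

noncomputable section

namespace Groth.Agent.CentMT21

open DiagGL MTRigid29

section Field

variable {k : Type u} [Field k] [IsAlgClosed k] {G G' H' P C' : Over (Spec (CommRingCat.of k))} [GrpObj G] [GrpObj G']
  [GrpObj H'] [GrpObj P] [GrpObj C']

theorem hasMaxTorus_field (G : Over (Spec (CommRingCat.of k))) [GrpObj G] [Smooth G.hom]
    [ConnectedSpace G.left] : SGA3x.HasMaxTorusFpqcLocally G := by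
  haveI : LocallyOfFiniteType G.hom := inferInstance
  haveI : IsMonHom η[G] := inferInstance
  haveI : Mono η[G] := by
    exact SplitMono.mono ⟨toUnit G, toUnit_unique _ _⟩
  obtain ⟨T, _, i, f, hT, -⟩ := AttrBorel21.exists_maxTorus_ge_gen Semiab15.isTorus_unit η[G]
  exact ⟨_, 𝟙 _, inferInstance, inferInstance, fun V hV => ⟨V, hV.isCompact, Set.image_id _⟩,
    _, inferInstance, _, MTExt21.isMaximalTorus_bc (AttrBorel21.isMaximalTorus_of_isMaxTorus hT) (𝟙 _)⟩

set_option maxHeartbeats 2000000 in
/-- Over an algebraically closed field the preimage of a subgroup containing a Cartan subgroup is smooth, contains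
a Cartan subgroup, and is connected if the subgroup is. -/
theorem field_preimage [Smooth G.hom] [QuasiCompact G.hom] [ConnectedSpace G.left] [Smooth G'.hom]
    [QuasiCompact G'.hom] [Smooth H'.hom] [QuasiCompact H'.hom] (u : G ⟶ G') [IsMonHom u] [Surjective u.left]
    (hker : CentralKer u) (h' : H' ⟶ G') [IsMonHom h'] [Mono h'] (c' : C' ⟶ H')
    (hc' : SGA3x.IsCartanOver k (c' ≫ h')) (p₁ : P ⟶ H') (p₂ : P ⟶ G) [IsMonHom p₁] [IsMonHom p₂]
    (hpb : IsPullback p₁ p₂ h' u) :
    Smooth P.hom ∧
      (∃ (C : Over (Spec (CommRingCat.of k))) (_ : GrpObj C) (c : C ⟶ P), SGA3x.IsCartanOver k (c ≫ p₂)) ∧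
      (ConnectedSpace H'.left → ConnectedSpace P.left) := by
  haveI : IsSeparated G.hom := AbRigid.isSeparated_of_grpObj G
  haveI : IsSeparated G'.hom := AbRigid.isSeparated_of_grpObj G'
  haveI : ConnectedSpace G'.left := u.left.surjective.connectedSpace u.left.continuous
  have hconn : ∀ s : Spec (CommRingCat.of k), _root_.IsConnected (G'.hom.base ⁻¹' {s}) := fun s => by
    rw [show G'.hom.base ⁻¹' {s} = Set.univ from Set.eq_univ_of_forall fun x =>
      Set.mem_singleton_iff.2 (Subsingleton.elim _ _)]
    exact isConnected_univ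
  obtain ⟨-, -, T', _, i', hT', hC'⟩ := hc'
  haveI := hC'.1
  haveI := hC'.2.1
  obtain ⟨T, _, i, v, hT, -, hv, -, -⟩ := exists_preimage_maxTorus (hasMaxTorus_field G) u hker hT'
  haveI := hT.1
  obtain ⟨C, _, c, hC, -, -, -⟩ := CartanRel21.exists_centralizer_isCartan hT
  haveI := hC.1
  haveI := hC.2.1
  obtain ⟨vC, hvm, hvs, hvf, hsq⟩ := exists_cartan_pullback u hker hconn hT hT' hv hC hC'
  let l : C ⟶ P := hpb.lift (vC ≫ c') c (by rw [Category.assoc]; exact hsq.w.symm)
  have hl₂ : l ≫ p₂ = c := hpb.lift_snd _ _ _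
  haveI : Mono p₂ := MorphismProperty.of_isPullback (P := MorphismProperty.monomorphisms _) hpb ‹Mono h'›
  haveI : IsMonHom l := MTExt21.isMonHom_of_comp' p₂ l (by rw [hl₂]; infer_instance)
  have hkerC : ∀ (X : Over (Spec (CommRingCat.of k))) (z : X ⟶ P), z ≫ p₁ = 1 → ∃ y : X ⟶ C, y ≫ l = z := by
    intro X z hz
    refine ⟨hsq.lift (z ≫ p₂) 1 (by
      rw [Category.assoc, ← hpb.w, ← Category.assoc, hz, MonObj.one_comp, MonObj.one_comp]), ?_⟩
    rw [← cancel_mono p₂, Category.assoc, hl₂, IsPullback.lift_fst]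
  haveI : Flat u.left := flat_left_of_surjective u
  haveI : QuasiCompact u.left := quasiCompact_left u
  haveI : LocallyOfFinitePresentation u.left := by
    haveI : LocallyOfFinitePresentation (u.left ≫ G'.hom) := by rw [Over.w u]; infer_instance
    exact SchBasic.locallyOfFinitePresentation_of_comp u.left G'.hom
  have hpb' := (hpb.map (Over.forget _)).flip
  haveI : Flat p₁.left := MorphismProperty.of_isPullback hpb' ‹Flat u.left›
  haveI : Surjective p₁.left := MorphismProperty.of_isPullback hpb' ‹Surjective u.left›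
  haveI : QuasiCompact p₁.left := MorphismProperty.of_isPullback hpb' ‹QuasiCompact u.left›
  haveI : LocallyOfFinitePresentation p₁.left :=
    MorphismProperty.of_isPullback hpb' ‹LocallyOfFinitePresentation u.left›
  haveI : LocallyOfFiniteType P.hom := by rw [← Over.w p₁]; infer_instance
  haveI : QuasiCompact P.hom := by rw [← Over.w p₁]; infer_instance
  obtain ⟨R, _, r, hrm, hrc, hrs, hRr, hRs⟩ := BorelFix21.exists_reduced_subgroup P
  haveI := hrm
  haveI := hrc
  haveI := hrs
  haveI := hRr
  haveI := hRs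
  haveI : Mono r := Over.mono_of_mono_left r
  haveI : QuasiCompact R.hom := by rw [← Over.w r]; infer_instance
  haveI : Smooth C.hom := (AttrBorel21.centralizer_props_gen hT.2.2.1 hC).2.2
  haveI : IsReduced C.left := AbRigid.isReduced_of_smooth_over_field C.hom
  obtain ⟨cR, hcR⟩ := PerfProd19.exists_lift_of_surjective r l
  haveI : Surjective (r ≫ p₁).left := by rw [Over.comp_left]; infer_instance
  haveI : Flat (r ≫ p₁).left := flat_left_of_surjective (r ≫ p₁)
  haveI : QuasiSeparated H'.hom := by
    haveI := AbRigid.isSeparated_of_grpObj H'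
    infer_instance
  haveI : QuasiCompact (r ≫ p₁).left := quasiCompact_left (r ≫ p₁)
  obtain ⟨P', π, a, hπf, hπs, hπq, ha⟩ := FppfDesc19.exists_cover_lift (r ≫ p₁) p₁
  obtain ⟨y, hy⟩ := hkerC P' (π * (a ≫ r)⁻¹) (by
    rw [MonObj.mul_comp, GrpObj.inv_comp, Category.assoc, ha, mul_inv_cancel])
  obtain ⟨s, hs⟩ := FppfDesc19.exists_lift_of_cover π r (𝟙 P) ((y ≫ cR) * a) (by
    rw [MonObj.mul_comp, Category.assoc, hcR, hy, inv_mul_cancel_right, Category.comp_id])
  haveI : IsSplitEpi r := IsSplitEpi.mk' ⟨s, hs⟩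
  haveI : IsIso r := isIso_of_mono_of_isSplitEpi r
  haveI : IsIso r.left := inferInstanceAs (IsIso ((Over.forget _).map r))
  haveI hP : Smooth P.hom := by
    have : inv r.left ≫ R.hom = P.hom := by rw [IsIso.inv_comp_eq, Over.w r]
    rw [← this]
    infer_instance
  refine ⟨hP, ⟨C, inferInstance, l, by rw [hl₂]; exact ⟨hC.1, hC.2.1, T, inferInstance, i, hT, hC⟩⟩, fun hH => ?_⟩
  haveI := hH
  obtain ⟨P₀, _, j, hjm, hjo, hjc, -, -, hP₀⟩ := AttrBorel21.exists_component_closed P
  haveI := hjm
  haveI := hjo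
  haveI := hjc
  haveI := hP₀
  haveI : ConnectedSpace C.left := AttrBorel21.connectedSpace_centralizer_gen hT.2.2.1 hC
  obtain ⟨l₀, hl₀⟩ := BorelFix21.exists_lift_component j j.left.isClosedEmbedding.isClosed_range l
  let A : Set P.left := Set.range j.left
  have hA : ∀ p p' : P.left, p₁.left p = p₁.left p' → p' ∈ A → p ∈ A := by
    rintro p _ hp ⟨z, rfl⟩
    rw [← Scheme.Hom.comp_apply] at hp
    obtain ⟨q, hq₁, -⟩ := Scheme.Pullback.exists_preimage_pullback (f := p₁.left) (g := j.left ≫ p₁.left) p z hp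
    let X : Over (Spec (CommRingCat.of k)) := Over.mk (pullback.fst p₁.left (j.left ≫ p₁.left) ≫ P.hom)
    let b : X ⟶ P := Over.homMk (pullback.fst p₁.left (j.left ≫ p₁.left)) rfl
    let a : X ⟶ P₀ := Over.homMk (pullback.snd p₁.left (j.left ≫ p₁.left)) (by
      show pullback.snd p₁.left (j.left ≫ p₁.left) ≫ P₀.hom = pullback.fst p₁.left (j.left ≫ p₁.left) ≫ P.hom
      rw [← Over.w p₁, ← Over.w j, ← Over.w p₁, ← Category.assoc j.left, ← Category.assoc, ← pullback.condition,
        Category.assoc])
    have hab : b ≫ p₁ = (a ≫ j) ≫ p₁ := Over.OverMorphism.ext (pullback.condition.trans (Category.assoc _ _ _).symm)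
    obtain ⟨y, hy⟩ := hkerC X (b * (a ≫ j)⁻¹) (by rw [MonObj.mul_comp, GrpObj.inv_comp, hab, mul_inv_cancel])
    have hb : ((y ≫ l₀) * a) ≫ j = b := by
      rw [MonObj.mul_comp, Category.assoc, hl₀, hy, inv_mul_cancel_right]
    exact ⟨((y ≫ l₀) * a).left q, by rw [← Scheme.Hom.comp_apply, ← Over.comp_left, hb]; exact hq₁⟩
  haveI : Surjective j.left := ⟨fun p => by
    by_contra hpA
    have hop := p₁.left.isOpenMap
    obtain ⟨y, -, ⟨a, ha, rfl⟩, ⟨b, hb, hab⟩⟩ := (isConnected_univ (α := H'.left)).isPreconnected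
      (p₁.left '' A) (p₁.left '' Aᶜ) (hop _ j.left.isOpenEmbedding.isOpen_range)
      (hop _ j.left.isClosedEmbedding.isClosed_range.isOpen_compl)
      (fun y _ => by
        obtain ⟨p', rfl⟩ := p₁.left.surjective y
        by_cases h : p' ∈ A
        · exact Or.inl ⟨p', h, rfl⟩
        · exact Or.inr ⟨p', h, rfl⟩)
      ⟨_, trivial, _, ⟨(η[P₀]).left (IsLocalRing.closedPoint k), rfl⟩, rfl⟩
      ⟨_, trivial, p, fun h => hpA (by obtain ⟨z, hz⟩ := h; exact ⟨z, hz⟩), rfl⟩
    exact hb (hA b a hab ha)⟩
  exact j.left.surjective.connectedSpace j.left.continuous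

end Field

section Base

variable {S : Scheme.{u}} {G G' H' : Over S} [GrpObj G] [GrpObj G'] [GrpObj H']

/-- A pullback of groups is a group. -/
theorem exists_grp_pullback (h' : H' ⟶ G') [IsMonHom h'] [Mono h'] (u : G ⟶ G') [IsMonHom u] :
    ∃ (_ : GrpObj (Limits.pullback h' u)), IsMonHom (Limits.pullback.fst h' u) ∧ IsMonHom (Limits.pullback.snd h' u) := by
  let p := Limits.pullback.fst h' u
  let q := Limits.pullback.snd h' u
  obtain ⟨_, hq⟩ := exists_grpObj_of_subgroup q
    (fun X a b => ⟨Limits.pullback.lift ((a ≫ p) * (b ≫ p)) ((a ≫ q) * (b ≫ q)) (by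
      rw [MonObj.mul_comp, MonObj.mul_comp]
      simp only [p, q, Category.assoc, Limits.pullback.condition]), Limits.pullback.lift_snd _ _ _⟩)
    ⟨Limits.pullback.lift 1 1 (by rw [MonObj.one_comp, MonObj.one_comp]), Limits.pullback.lift_snd _ _ _⟩
    (fun X a => ⟨Limits.pullback.lift (a ≫ p)⁻¹ (a ≫ q)⁻¹ (by
      rw [GrpObj.inv_comp, GrpObj.inv_comp]
      simp only [p, q, Category.assoc, Limits.pullback.condition]), Limits.pullback.lift_snd _ _ _⟩)
  haveI := hq
  exact ⟨inferInstance, MTExt21.isMonHom_of_comp' h' p (by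
    rw [show p ≫ h' = q ≫ u from Limits.pullback.condition]; infer_instance), hq⟩

theorem geomPt_apply (s : S) : Red.geomPt s (IsLocalRing.closedPoint _) = s := by
  show (Spec.map _ ≫ S.fromSpecResidueField s) _ = s
  rw [Scheme.Hom.comp_apply]
  exact Scheme.fromSpecResidueField_apply s _

/-- A homomorphism surjective on fibres is surjective. -/
theorem surjective_left_of_fibres (u : G ⟶ G')
    (hu : ∀ s : S, Surjective ((Over.pullback (S.fromSpecResidueField s)).map u).left) : Surjective u.left := by
  refine ⟨fun y => ?_⟩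
  let s := G'.hom y
  obtain ⟨y', hy', -⟩ := Scheme.Pullback.exists_preimage_pullback (f := G'.hom) (g := S.fromSpecResidueField s) y
    (IsLocalRing.closedPoint _) (Scheme.fromSpecResidueField_apply s _).symm
  obtain ⟨x, hx⟩ := (hu s).surj y'
  refine ⟨pullback.fst G.hom (S.fromSpecResidueField s) x, ?_⟩
  rw [← Scheme.Hom.comp_apply, (isPullback_map_left (S.fromSpecResidueField s) u).w, Scheme.Hom.comp_apply, hx, hy']

/-- Connected geometric fibres have connected images. -/
theorem isConnected_fibre_of_geom {Y : Over S} (s : S) (h : ConnectedSpace ↥(Red.geomFibre s Y).left) :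
    _root_.IsConnected (Y.hom.base ⁻¹' {s}) := by
  haveI : ConnectedSpace ↥(pullback Y.hom (Red.geomPt s)) := h
  have hr : Y.hom.base ⁻¹' {s} = Set.range (pullback.fst Y.hom (Red.geomPt s)) := by
    rw [Scheme.Pullback.range_fst]
    congr 1
    refine (Set.eq_singleton_iff_nonempty_unique_mem.2 ⟨Set.range_nonempty _, ?_⟩).symm
    rintro _ ⟨x, rfl⟩
    rw [show x = IsLocalRing.closedPoint _ from Subsingleton.elim _ _]
    exact geomPt_apply s
  rw [hr]
  exact isConnected_range (pullback.fst Y.hom (Red.geomPt s)).continuous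

/-- A group with connected fibres has connected geometric fibres. -/
theorem connectedSpace_geomFibre (Y : Over S) [GrpObj Y] (hY : ∀ s : S, _root_.IsConnected (Y.hom.base ⁻¹' {s}))
    (s : S) : ConnectedSpace ↥(Red.geomFibre s Y).left := by
  haveI : ∀ x : S, ConnectedSpace ↥(Y.hom.fiber x) := fun x => by
    haveI : ConnectedSpace ↥(Y.hom.base ⁻¹' {x}) := isConnected_iff_connectedSpace.1 (hY x)
    exact (Y.hom.fiberHomeo x).symm.surjective.connectedSpace (Y.hom.fiberHomeo x).symm.continuous
  haveI : GeometricallyConnected Y.hom := AbSchRigid22.geometricallyConnected_of_grpObj Y this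
  haveI : GeometricallyConnected (pullback.snd Y.hom (Red.geomPt s)) := inferInstance
  exact GeometricallyConnected.connectedSpace_of_subsingleton (pullback.snd Y.hom (Red.geomPt s))

/-- A flat group with smooth geometric fibres is smooth. -/
theorem smooth_of_flat_of_geom (Y : Over S) [Flat Y.hom] [LocallyOfFinitePresentation Y.hom]
    (h : ∀ s : S, Smooth (Red.geomFibre s Y).hom) : Smooth Y.hom := by
  refine FlatH4.smooth_of_flat_of_fibres Y.hom fun F _ a => ?_
  let e : Spec (CommRingCat.of (AlgebraicClosure F)) ⟶ Spec (CommRingCat.of F) :=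
    Spec.map (CommRingCat.ofHom (algebraMap F (AlgebraicClosure F)))
  haveI : Flat e := (HasRingHomProperty.Spec_iff (P := @Flat)).2 (RingHom.Flat.of_isField (Field.toIsField _) _)
  haveI : Surjective e := ⟨fun q => ⟨IsLocalRing.closedPoint _, Subsingleton.elim _ _⟩⟩
  obtain ⟨s, b, -, hk⟩ := MTExt21.exists_factor_geomPt (e ≫ a)
  haveI : Smooth (pullback.snd Y.hom (Red.geomPt s)) := h s
  let B := Spec.map (CommRingCat.ofHom b)
  haveI : Smooth (pullback.snd Y.hom (B ≫ Red.geomPt s)) := by
    rw [show pullback.snd Y.hom (B ≫ Red.geomPt s) = (pullbackLeftPullbackSndIso Y.hom (Red.geomPt s) B).inv ≫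
      pullback.snd (pullback.snd Y.hom (Red.geomPt s)) B by simp]
    infer_instance
  have h1 : Smooth (pullback.snd Y.hom (e ≫ a)) := by rw [hk]; infer_instance
  haveI : Smooth (pullback.snd (pullback.snd Y.hom a) e) := by
    rw [show pullback.snd (pullback.snd Y.hom a) e = (pullbackLeftPullbackSndIso Y.hom a e).hom ≫
      pullback.snd Y.hom (e ≫ a) by simp]
    infer_instance
  have h2 : Smooth (pullback.snd Y.hom a) :=
    MorphismProperty.of_pullback_snd_of_descendsAlong (Q := @Surjective ⊓ @Flat ⊓ @QuasiCompact)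
      (g := e) ⟨⟨inferInstance, inferInstance⟩, inferInstance⟩ ‹_›
  rw [← pullbackSymmetry_hom_comp_snd a Y.hom]
  infer_instance

variable [Smooth G.hom] [QuasiCompact G.hom] [QuasiSeparated G.hom] [Smooth G'.hom] [QuasiCompact G'.hom]
  [QuasiSeparated G'.hom]

set_option maxHeartbeats 2000000 in
/-- Preimages of subgroups with the ranks of the ambient group. -/
theorem preimage_props (hconn : ∀ s : S, _root_.IsConnected (G.hom.base ⁻¹' {s})) (u : G ⟶ G') [IsMonHom u]
    [Surjective u.left] (hker : CentralKer u) (h' : H' ⟶ G') [IsMonHom h'] [Mono h'] [Smooth H'.hom]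
    [QuasiCompact H'.hom]
    (hH' : ∀ s : S, ∃ (C' : Over (Spec (CommRingCat.of (AlgebraicClosure (S.residueField s))))) (_ : GrpObj C')
      (c' : C' ⟶ Red.geomFibre s H'), SGA3x.IsCartanOver _ (c' ≫ (Over.pullback (Red.geomPt s)).map h')) :
    Smooth (Limits.pullback h' u).hom ∧ QuasiCompact (Limits.pullback h' u).hom ∧
    (∀ s : S, ∃ (C : Over (Spec (CommRingCat.of (AlgebraicClosure (S.residueField s))))) (_ : GrpObj C)
      (c : C ⟶ Red.geomFibre s (Limits.pullback h' u)),
      SGA3x.IsCartanOver _ (c ≫ (Over.pullback (Red.geomPt s)).map (Limits.pullback.snd h' u))) ∧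
    ((∀ s : S, _root_.IsConnected ((Limits.pullback h' u).hom.base ⁻¹' {s})) ↔
      ∀ s : S, _root_.IsConnected (H'.hom.base ⁻¹' {s})) := by
  obtain ⟨_, hfst, hsnd⟩ := exists_grp_pullback h' u
  haveI := hfst
  haveI := hsnd
  let P := Limits.pullback h' u
  let p₁ := Limits.pullback.fst h' u
  have hpb' := ((IsPullback.of_hasPullback h' u).map (Over.forget S)).flip
  haveI : Flat u.left := flat_left_of_surjective u
  haveI : QuasiCompact u.left := quasiCompact_left u
  haveI : LocallyOfFinitePresentation u.left := by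
    haveI : LocallyOfFinitePresentation (u.left ≫ G'.hom) := by rw [Over.w u]; infer_instance
    exact SchBasic.locallyOfFinitePresentation_of_comp u.left G'.hom
  haveI : Flat p₁.left := MorphismProperty.of_isPullback hpb' ‹Flat u.left›
  haveI : Surjective p₁.left := MorphismProperty.of_isPullback hpb' ‹Surjective u.left›
  haveI : QuasiCompact p₁.left := MorphismProperty.of_isPullback hpb' ‹QuasiCompact u.left›
  haveI : LocallyOfFinitePresentation p₁.left :=
    MorphismProperty.of_isPullback hpb' ‹LocallyOfFinitePresentation u.left›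
  haveI : Flat P.hom := by rw [← Over.w p₁]; infer_instance
  haveI : LocallyOfFinitePresentation P.hom := by rw [← Over.w p₁]; infer_instance
  have hgeom : ∀ s : S, Smooth (Red.geomFibre s P).hom ∧
      (∃ (C : Over (Spec (CommRingCat.of (AlgebraicClosure (S.residueField s))))) (_ : GrpObj C)
        (c : C ⟶ Red.geomFibre s P),
        SGA3x.IsCartanOver _ (c ≫ (Over.pullback (Red.geomPt s)).map (Limits.pullback.snd h' u))) ∧
      (ConnectedSpace ↥(Red.geomFibre s H').left → ConnectedSpace ↥(Red.geomFibre s P).left) := by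
    intro s
    let g := Red.geomPt s
    haveI : Smooth (Red.bc g G).hom := inferInstanceAs (Smooth (pullback.snd G.hom g))
    haveI : QuasiCompact (Red.bc g G).hom := inferInstanceAs (QuasiCompact (pullback.snd G.hom g))
    haveI : Smooth (Red.bc g G').hom := inferInstanceAs (Smooth (pullback.snd G'.hom g))
    haveI : QuasiCompact (Red.bc g G').hom := inferInstanceAs (QuasiCompact (pullback.snd G'.hom g))
    haveI : Smooth (Red.bc g H').hom := inferInstanceAs (Smooth (pullback.snd H'.hom g))
    haveI : QuasiCompact (Red.bc g H').hom := inferInstanceAs (QuasiCompact (pullback.snd H'.hom g))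
    haveI := connectedSpace_geomFibre G hconn s
    haveI := isMonHom_map u g
    haveI := isMonHom_map h' g
    haveI := isMonHom_map p₁ g
    haveI := isMonHom_map (Limits.pullback.snd h' u) g
    haveI : Surjective ((Over.pullback g).map u).left := surjective_map_left u g
    haveI : Mono ((Over.pullback g).map h') := Functor.map_mono _ _
    obtain ⟨C', _, c', hc'⟩ := hH' s
    exact field_preimage ((Over.pullback g).map u) (centralKer_bc hker g) ((Over.pullback g).map h') c' hc'
      ((Over.pullback g).map p₁) _ ((IsPullback.of_hasPullback h' u).map (Over.pullback g))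
  refine ⟨smooth_of_flat_of_geom P fun s => (hgeom s).1, by rw [← Over.w p₁]; infer_instance,
    fun s => (hgeom s).2.1, ⟨fun hP s => ?_, fun hH s => ?_⟩⟩
  · have h := (hP s).image p₁.left p₁.left.continuous.continuousOn
    rwa [show p₁.left '' ((Limits.pullback h' u).hom.base ⁻¹' {s}) = H'.hom.base ⁻¹' {s} from by
      ext y
      constructor
      · rintro ⟨x, hx, rfl⟩
        show H'.hom (p₁.left x) = s
        rw [← Scheme.Hom.comp_apply, Over.w p₁]
        exact hx
      · intro hy
        obtain ⟨x, rfl⟩ := p₁.left.surjective y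
        refine ⟨x, ?_, rfl⟩
        show (Limits.pullback h' u).hom x = s
        rw [← Over.w p₁, Scheme.Hom.comp_apply]
        exact hy] at h
  · exact isConnected_fibre_of_geom s ((hgeom s).2.2 (connectedSpace_geomFibre H' hH s))

end Base

end Groth.Agent.CentMT21
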