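import Groth.Agent.Lib.MTRigid29.CentralizerNormalizer

/-!
# Centralizers are clopen in subschemes normalising a subgroup of multiplicative type
-/

set_option autoImplicit false
set_option linter.style.haveILetI false
set_option backward.isDefEq.respectTransparency.types false
set_option maxSynthPendingDepth 3

universe u

open CategoryTheory Limits MonoidalCategory CartesianMonoidalCategory MonObj AlgebraicGeometry Opposite

noncomputable section

namespace Groth.Agent.CentMT21

open DiagGL MTRigid29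

variable {S : Scheme.{u}} {G H : Over S} [GrpObj G] [GrpObj H]

/-- The centralizer is open and closed in any subscheme normalising the subgroup. -/
theorem centralizer_clopen_of_normalising {Z N : Over S} [GrpObj Z] (hH : SGA3x.IsMultTypeFT H) (i : H ⟶ G)
    [IsMonHom i] [Mono i] (j : Z ⟶ G) (k : N ⟶ G) [Mono k] (hj : Red.IsCentralizerOf i j)
    (hk : ∀ (X : Over S) (x : X ⟶ N) (h : X ⟶ H), ∃ h' : X ⟶ H, (x ≫ k) * (h ≫ i) * (x ≫ k)⁻¹ = h' ≫ i)
    (f : Z ⟶ N) (hf : f ≫ k = j) : IsOpenImmersion f.left ∧ IsClosedImmersion f.left := by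
  obtain ⟨-, hjm, hjp⟩ := hj
  haveI := hjm
  have hjc := (hjp Z j).1 ⟨𝟙 Z, Category.id_comp j⟩
  -- the action of the normalizer
  let p : N.left ⟶ S := N.hom
  let HN := Red.bc p H
  let kY : ∀ (Y : Over N.left), (Over.map p).obj Y ⟶ G := fun Y => (Over.homMk Y.hom rfl : (Over.map p).obj Y ⟶ N) ≫ k
  obtain ⟨n, hn⟩ := hk _ (Over.homMk HN.hom rfl) (fl p H (𝟙 HN))
  let α : HN ⟶ HN := (Over.mapPullbackAdj p).homEquiv _ _ n
  have hα : ∀ (Y : Over N.left) (y : Y ⟶ HN),
      fl p H (y ≫ α) ≫ i = kY Y * (fl p H y ≫ i) * (kY Y)⁻¹ := by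
    intro Y y
    have h1 : fl p H y = (Over.map p).map y ≫ fl p H (𝟙 HN) := by rw [← fl_comp, Category.comp_id]
    have h2 : kY Y = (Over.map p).map y ≫ kY HN := by
      show _ ≫ k = _ ≫ _ ≫ k
      rw [← Category.assoc]
      congr 1
      exact Over.OverMorphism.ext (Over.w y).symm
    rw [fl_comp, show fl p H α = n from Equiv.symm_apply_apply _ _, Category.assoc, ← hn, h1, h2]
    simp only [kY, MonObj.comp_mul, GrpObj.comp_inv, Category.assoc]
  have hα1 : ∀ (Y : Over N.left) (a b : Y ⟶ HN), (a * b) ≫ α = (a ≫ α) * (b ≫ α) := fun Y a b =>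
    fl_injective p H ((cancel_mono i).1 (by
      rw [hα, fl_mul, fl_mul, MonObj.mul_comp, MonObj.mul_comp, hα, hα]
      group))
  let v : HN ⟶ HN := α * (𝟙 HN)⁻¹
  have hHN := isMultTypeFT_bc hH p
  haveI : IsMonHom v := TorsorSch25.isMonHom_of_points v fun Y a b => by
    simp only [v, MonObj.comp_mul, GrpObj.comp_inv, Category.comp_id, hα1, mul_inv_rev]
    have hc : ∀ x y : Y ⟶ HN, x * y = y * x := fun x y => commute_of_isMultTypeFT hHN x y
    calc (a ≫ α) * (b ≫ α) * (b⁻¹ * a⁻¹) = (a ≫ α) * (((b ≫ α) * b⁻¹) * a⁻¹) := by group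
      _ = (a ≫ α) * (a⁻¹ * ((b ≫ α) * b⁻¹)) := by rw [hc ((b ≫ α) * b⁻¹) a⁻¹]
      _ = (a ≫ α) * a⁻¹ * ((b ≫ α) * b⁻¹) := by group
  haveI := isAffineHom_of_isMultTypeFT hHN
  haveI := locallyOfFiniteType_of_isMultTypeFT hHN
  obtain ⟨U, hUc, hU, hUt⟩ := exists_triv_locus v hHN (.inr inferInstance)
  have hvy : ∀ (Y : Over N.left) (y : Y ⟶ HN),
      y ≫ v = 1 ↔ kY Y * (fl p H y ≫ i) = (fl p H y ≫ i) * kY Y := by
    intro Y y
    simp only [v, MonObj.comp_mul, GrpObj.comp_inv, Category.comp_id, mul_inv_eq_one]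
    rw [← (fl_injective p H).eq_iff, ← cancel_mono i, hα, mul_inv_eq_iff_eq_mul]
  -- the centralizer lands in the locus
  have hft : Triv v f.left := by
    intro T y
    refine (hvy _ y).2 ?_
    have h := hjc ((Over.map p).obj ((Over.map f.left).obj T))
      (Over.homMk T.hom (by
        show T.hom ≫ Z.hom = (T.hom ≫ f.left) ≫ p
        rw [Category.assoc]
        exact congrArg (T.hom ≫ ·) (Over.w f).symm)) (fl p H y)
    rw [← hf, ← Category.assoc] at h
    exact h
  have hfU : ∀ z, f.left z ∈ U := by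
    intro z
    rw [hU]
    have h2 := triv_comp v hft (Z.left.fromSpecResidueField z)
    rw [← Scheme.Hom.SpecMap_residueFieldMap_fromSpecResidueField] at h2
    haveI : Surjective (Spec.map (f.left.residueFieldMap z)) :=
      ⟨fun q => ⟨IsLocalRing.closedPoint (Z.left.residueField z), Subsingleton.elim _ _⟩⟩
    haveI : Flat (Spec.map (f.left.residueFieldMap z)) :=
      (HasRingHomProperty.Spec_iff (P := @Flat)).2 (RingHom.Flat.of_isField (Field.toIsField _) _)
    exact triv_of_flat_cover v (Spec.map (f.left.residueFieldMap z)) h2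
  -- the locus lands in the centralizer
  let UN : Over S := Over.mk (U.ι ≫ p)
  let ιU : UN ⟶ N := Over.homMk U.ι rfl
  obtain ⟨l, hl⟩ := (hjp UN (ιU ≫ k)).2 fun X' x h => by
    let Y : Over (U : Scheme.{u}) := Over.mk x.left
    let e : (Over.map p).obj ((Over.map U.ι).obj Y) ≅ X' := Over.isoMk (Iso.refl _) (by
      show 𝟙 _ ≫ X'.hom = (x.left ≫ U.ι) ≫ p
      rw [Category.id_comp, Category.assoc]
      exact (Over.w x).symm)
    obtain ⟨y, hy⟩ := fl_surjective p H (e.hom ≫ h)
    have h1 := (hvy _ y).1 (hUt Y y)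
    have hk' : kY ((Over.map U.ι).obj Y) = e.hom ≫ x ≫ ιU ≫ k := by
      show _ ≫ k = _
      rw [← Category.assoc x, ← Category.assoc e.hom]
      congr 1
    rw [hy, hk', Category.assoc, ← MonObj.comp_mul, ← MonObj.comp_mul, cancel_epi] at h1
    exact h1
  have hlf : l ≫ f = ιU := (cancel_mono k).1 (by rw [Category.assoc, hf, hl])
  let m : Z.left ⟶ (U : Scheme.{u}) := IsOpenImmersion.lift U.ι f.left (by
    rw [Scheme.Opens.range_ι]
    rintro _ ⟨z, rfl⟩
    exact hfU z)
  have hm : m ≫ U.ι = f.left := IsOpenImmersion.lift_fac _ _ _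
  let mm : Z ⟶ UN := Over.homMk m (by
    show m ≫ U.ι ≫ p = Z.hom
    rw [← Category.assoc, hm]
    exact Over.w f)
  have hmf : mm ≫ ιU = f := Over.OverMorphism.ext hm
  haveI : Mono ιU := by
    haveI : Mono ιU.left := inferInstanceAs (Mono U.ι)
    exact Over.mono_of_mono_left ιU
  let E : Z ≅ UN := ⟨mm, l,
    (cancel_mono j).1 (by rw [Category.assoc, hl, ← Category.assoc, hmf, hf, Category.id_comp]),
    (cancel_mono ιU).1 (by rw [Category.assoc, hmf, hlf, Category.id_comp])⟩
  haveI : IsIso mm.left := ((Over.forget S).mapIso E).isIso_hom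
  have hfl : f.left = mm.left ≫ U.ι := hm.symm
  haveI : IsClosedImmersion U.ι := IsClosedImmersion.of_isPreimmersion _ (by rw [Scheme.Opens.range_ι]; exact hUc)
  rw [hfl]
  exact ⟨inferInstance, inferInstance⟩

end Groth.Agent.CentMT21
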