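import Groth.Agent.Lib.CentMT21.Main
import Groth.Agent.Lib.AttrBorel21.CentGenMain
import Groth.Agent.Lib.AbSchRigid22.Basic
import Groth.Agent.Lib.CentMT21.Clopen
import Groth.Agent.Lib.MTRigid29.CentralizerNormalizer

/-!
# Cartan subgroups correspond under homomorphisms with central kernel
-/

set_option autoImplicit false
set_option linter.style.haveILetI false
set_option linter.unusedSectionVars false
set_option backward.isDefEq.respectTransparency.types false

universe u

open CategoryTheory Limits MonoidalCategory CartesianMonoidalCategory MonObj AlgebraicGeometry Opposite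

noncomputable section

namespace Groth.Agent.CentMT21

open DiagGL MTRigid29 CartanT21

variable {S : Scheme.{u}} {G G' T T' C C' : Over S} [GrpObj G] [GrpObj G'] [GrpObj T] [GrpObj T'] [GrpObj C] [GrpObj C']

/-- The centraliser of a torus in a group with connected fibres has connected fibres. -/
theorem isConnected_fibre_centralizer [Smooth G'.hom] [IsSeparated G'.hom] [QuasiCompact G'.hom]
    (hconn : ∀ s : S, _root_.IsConnected (G'.hom.base ⁻¹' {s})) {i' : T' ⟶ G'} [IsMonHom i'] (hT : Red.IsTorus T')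
    {c' : C' ⟶ G'} (hC : Red.IsCentralizerOf i' c') (s : S) : _root_.IsConnected (C'.hom.base ⁻¹' {s}) := by
  let g := Red.geomPt s
  haveI : ∀ x : S, ConnectedSpace ↥(G'.hom.fiber x) := fun x => by
    haveI : ConnectedSpace ↥(G'.hom.base ⁻¹' {x}) := isConnected_iff_connectedSpace.1 (hconn x)
    exact (G'.hom.fiberHomeo x).symm.surjective.connectedSpace (G'.hom.fiberHomeo x).symm.continuous
  haveI : GeometricallyConnected G'.hom := AbSchRigid22.geometricallyConnected_of_grpObj G' this
  haveI : Smooth (Red.bc g G').hom := inferInstanceAs (Smooth (pullback.snd G'.hom g))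
  haveI : QuasiCompact (Red.bc g G').hom := inferInstanceAs (QuasiCompact (pullback.snd G'.hom g))
  haveI : ConnectedSpace ↥(Red.bc g G').left := by
    haveI : GeometricallyConnected (pullback.snd G'.hom g) := inferInstance
    exact GeometricallyConnected.connectedSpace_of_subsingleton (pullback.snd G'.hom g)
  haveI := isMonHom_map i' g
  haveI : ConnectedSpace ↥(Red.bc g C').left :=
    AttrBorel21.connectedSpace_centralizer_gen (MTExt21.isTorus_bc hT g) (CartanRel21.isCentralizerOf_bc hC g)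
  have hr : C'.hom.base ⁻¹' {s} = Set.range (pullback.fst C'.hom g) := by
    rw [Scheme.Pullback.range_fst]
    congr 1
    refine (Set.eq_singleton_iff_nonempty_unique_mem.2 ⟨Set.range_nonempty _, ?_⟩).symm
    rintro _ ⟨x, rfl⟩
    show (Spec.map _ ≫ S.fromSpecResidueField s) x = s
    rw [Scheme.Hom.comp_apply]
    exact Scheme.fromSpecResidueField_apply s _
  rw [hr]
  haveI : ConnectedSpace ↥(pullback C'.hom g) := ‹ConnectedSpace ↥(Red.bc g C').left›
  exact isConnected_range (pullback.fst C'.hom g).continuous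

variable [Smooth G.hom] [IsSeparated G.hom] [QuasiCompact G.hom] [Smooth G'.hom] [IsSeparated G'.hom] [QuasiCompact G'.hom]

/-- A point whose image centralises the image torus normalises the torus upstairs. -/
theorem exists_conj_mem (u : G ⟶ G') [IsMonHom u] [Surjective u.left] (hker : CentralKer u) {i : T ⟶ G}
    (hT : Red.IsMaximalTorus i) {i' : T' ⟶ G'} (hT' : Red.IsMaximalTorus i') {v : T ⟶ T'} (hv : v ≫ i' = i ≫ u)
    {X : Over S} (x : X ⟶ G)
    (hx : ∀ (X' : Over S) (r : X' ⟶ X) (b : X' ⟶ T'), (r ≫ x ≫ u) * (b ≫ i') = (b ≫ i') * (r ≫ x ≫ u))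
    (a : X ⟶ T) : ∃ a' : X ⟶ T, x * (a ≫ i) * x⁻¹ = a' ≫ i := by
  let σ := X.hom
  haveI := hT.1
  haveI : Smooth (Red.bc σ G).hom := inferInstanceAs (Smooth (pullback.snd G.hom σ))
  haveI : IsSeparated (Red.bc σ G).hom := inferInstanceAs (IsSeparated (pullback.snd G.hom σ))
  haveI : QuasiCompact (Red.bc σ G).hom := inferInstanceAs (QuasiCompact (pullback.snd G.hom σ))
  haveI : IsSeparated (Red.bc σ G').hom := inferInstanceAs (IsSeparated (pullback.snd G'.hom σ))
  haveI : Smooth (Red.bc σ G').hom := inferInstanceAs (Smooth (pullback.snd G'.hom σ))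
  haveI : IsMonHom ((Over.pullback σ).map u) := isMonHom_map u σ
  haveI : Surjective ((Over.pullback σ).map u).left := surjective_map_left u σ
  let eX : (Over.map σ).obj (𝟙_ (Over X.left)) ≅ X := Over.isoMk (Iso.refl _) (by
    show 𝟙 _ ≫ X.hom = 𝟙 _ ≫ σ
    rfl)
  obtain ⟨g, hg⟩ := fl_surjective σ G (eX.hom ≫ x)
  obtain ⟨aσ, ha⟩ := fl_surjective σ T (eX.hom ≫ a)
  let t₂ : Red.bc σ T ⟶ Red.bc σ G := (Over.pullback σ).map i ≫ (conjIso g).hom
  have ht₂ : Red.IsMaximalTorus t₂ := isMaximalTorus_conj (MTExt21.isMaximalTorus_bc hT σ) g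
  have hv₂ : (Over.pullback σ).map v ≫ (Over.pullback σ).map i' = t₂ ≫ (Over.pullback σ).map u := by
    refine fl_injective σ G' ?_
    simp only [t₂]
    have e₁ : fl σ G ((Over.pullback σ).map i) = fl σ T (𝟙 _) ≫ i := by rw [← fl_comp_map, Category.id_comp]
    have e₂ : fl σ T' ((Over.pullback σ).map v) = fl σ T (𝟙 _) ≫ v := by rw [← fl_comp_map, Category.id_comp]
    rw [fl_comp_map, fl_comp_map, comp_conjIso, fl_mul, fl_mul, MTRigid29.fl_inv σ G, fl_comp, hg, e₁, e₂,
      MonObj.mul_comp, MonObj.mul_comp, GrpObj.inv_comp]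
    have h := hx _ ((Over.map σ).map (toUnit (Red.bc σ T)) ≫ eX.hom) (fl σ T (𝟙 _) ≫ v)
    simp only [Category.assoc, hv] at h ⊢
    rw [h, mul_inv_cancel_right]
  obtain ⟨φ, hφ⟩ := eq_of_same_image ((Over.pullback σ).map u) (centralKer_bc hker σ) ht₂
    (MTExt21.isMaximalTorus_bc hT σ) (MTExt21.isMaximalTorus_bc hT' σ) hv₂
    (v₂ := (Over.pullback σ).map v) (by rw [← Functor.map_comp, hv, Functor.map_comp])
  refine ⟨eX.inv ≫ fl σ T (aσ ≫ φ.hom), ?_⟩
  have h := congrArg (fun m => fl σ G (aσ ≫ m)) hφ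
  simp only [t₂] at h
  rw [← Category.assoc aσ φ.hom, fl_comp_map, ← Category.assoc aσ, comp_conjIso,
    toUnit_unique (toUnit _) (𝟙 _), Category.id_comp, fl_mul, fl_mul, MTRigid29.fl_inv σ G, fl_comp_map, ha,
    hg] at h
  rw [Category.assoc, h]
  simp only [MonObj.comp_mul, GrpObj.comp_inv, Category.assoc, Iso.inv_hom_id_assoc]

set_option maxHeartbeats 4000000 in
/-- The preimage of the centraliser of the image torus is the centraliser upstairs. -/
theorem exists_cartan_pullback (u : G ⟶ G') [IsMonHom u] [Surjective u.left] (hker : CentralKer u)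
    (hconn : ∀ s : S, _root_.IsConnected (G'.hom.base ⁻¹' {s})) {i : T ⟶ G}
    (hT : Red.IsMaximalTorus i) {i' : T' ⟶ G'} (hT' : Red.IsMaximalTorus i') {v : T ⟶ T'} (hv : v ≫ i' = i ≫ u)
    {c : C ⟶ G} (hC : Red.IsCentralizerOf i c) {c' : C' ⟶ G'} (hC' : Red.IsCentralizerOf i' c') :
    ∃ vC : C ⟶ C', IsMonHom vC ∧ Surjective vC.left ∧ Flat vC.left ∧ IsPullback c vC u c' := by
  haveI := hT.1
  haveI := hT.2.1
  haveI := hT'.1
  haveI := hC.1
  haveI := hC.2.1
  haveI := hC'.1
  haveI := hC'.2.1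
  obtain ⟨hvm, hvf, hvs⟩ := flat_surjective_of_factor u hT hT' v hv
  haveI := hvf
  haveI := hvs
  haveI := isAffineHom_of_isMT (isMT_of_ft (TorPts21.isMultTypeFT_of_isTorus hT.2.2.1))
  haveI := isAffineHom_of_isMT (isMT_of_ft (TorPts21.isMultTypeFT_of_isTorus hT'.2.2.1))
  haveI : QuasiCompact v.left := quasiCompact_left v
  obtain ⟨vC, hvC⟩ := (hC'.2.2 C (c ≫ u)).2 fun X x b => by
    obtain ⟨X', π, a, hπf, hπs, -, ha⟩ := FppfDesc19.exists_cover_lift v b
    haveI : Epi π.left := Flat.epi_of_flat_of_surjective _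
    haveI : Epi π := Over.epi_of_epi_left _
    rw [← cancel_epi π, MonObj.comp_mul, MonObj.comp_mul, ← Category.assoc π b, ← ha]
    simp only [Category.assoc, hv]
    have h := (hC.2.2 C c).1 ⟨𝟙 _, Category.id_comp _⟩ X' (π ≫ x) a
    have h' := congrArg (· ≫ u) h
    simpa only [MonObj.mul_comp, Category.assoc] using h'
  haveI : IsMonHom vC := MTExt21.isMonHom_of_comp' c' vC (by rw [hvC]; infer_instance)
  let p₁ := Limits.pullback.fst u c'
  let p₂ := Limits.pullback.snd u c'
  let P := Limits.pullback u c'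
  let l : C ⟶ P := Limits.pullback.lift c vC hvC.symm
  haveI : Mono p₁ := inferInstanceAs (Mono (Limits.pullback.fst u c'))
  have hpb := (IsPullback.of_hasPullback u c').map (Over.forget S)
  haveI : Flat u.left := flat_left_of_surjective u
  haveI : QuasiCompact u.left := quasiCompact_left u
  haveI : LocallyOfFinitePresentation u.left := by
    haveI : LocallyOfFinitePresentation (u.left ≫ G'.hom) := by rw [Over.w u]; infer_instance
    exact SchBasic.locallyOfFinitePresentation_of_comp u.left G'.hom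
  haveI : Flat p₂.left := MorphismProperty.of_isPullback hpb ‹Flat u.left›
  haveI : Surjective p₂.left := MorphismProperty.of_isPullback hpb ‹Surjective u.left›
  haveI : LocallyOfFinitePresentation p₂.left :=
    MorphismProperty.of_isPullback hpb ‹LocallyOfFinitePresentation u.left›
  have hcl : l ≫ p₁ = c := Limits.pullback.lift_fst _ _ _
  have hvl : l ≫ p₂ = vC := Limits.pullback.lift_snd _ _ _
  -- `P` normalises the torus, so `C` is open and closed in it
  obtain ⟨hlo, hlc⟩ := centralizer_clopen_of_normalising (TorPts21.isMultTypeFT_of_isTorus hT.2.2.1) i c p₁ hC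
    (fun X x a => exists_conj_mem u hker hT hT' hv (x ≫ p₁) (fun X' r b => by
      have h := (hC'.2.2 _ (r ≫ x ≫ p₂ ≫ c')).1 ⟨r ≫ x ≫ p₂, by simp only [Category.assoc]⟩ X' (𝟙 _) b
      rw [Category.id_comp] at h
      simpa only [Category.assoc, p₁, p₂, Limits.pullback.condition] using h) a) l hcl
  haveI := hlo
  haveI := hlc
  -- two points with the same image are both in or both out
  let A : Set P.left := Set.range l.left
  have hA : ∀ p p' : P.left, p₂.left p = p₂.left p' → p' ∈ A → p ∈ A := by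
    rintro p _ hp ⟨z, rfl⟩
    rw [← Scheme.Hom.comp_apply] at hp
    obtain ⟨q, hq₁, -⟩ := Scheme.Pullback.exists_preimage_pullback (f := p₂.left) (g := (l.left ≫ p₂.left)) p z hp
    let X : Over S := Over.mk (pullback.fst p₂.left (l.left ≫ p₂.left) ≫ P.hom)
    let b : X ⟶ P := Over.homMk (pullback.fst p₂.left (l.left ≫ p₂.left)) rfl
    let a : X ⟶ C := Over.homMk (pullback.snd p₂.left (l.left ≫ p₂.left)) (by
      show pullback.snd p₂.left (l.left ≫ p₂.left) ≫ C.hom = pullback.fst p₂.left (l.left ≫ p₂.left) ≫ P.hom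
      rw [← Over.w p₂, ← Over.w l, ← Over.w p₂, ← Category.assoc l.left, ← Category.assoc, ← pullback.condition,
        Category.assoc])
    have hab : b ≫ p₂ = a ≫ vC := by
      rw [← hvl]
      exact Over.OverMorphism.ext pullback.condition
    have hz : ((b ≫ p₁) * (a ≫ c)⁻¹) ≫ u = 1 := by
      rw [MonObj.mul_comp, GrpObj.inv_comp, mul_inv_eq_one, Category.assoc, Category.assoc,
        show p₁ ≫ u = p₂ ≫ c' from Limits.pullback.condition, reassoc_of% hab, hvC]
    obtain ⟨y, hy⟩ := (hC.2.2 X (b ≫ p₁)).2 fun X' x t => by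
      have h1 : Commute ((x ≫ b ≫ p₁) * (x ≫ a ≫ c)⁻¹) (t ≫ i) := by
        have h := hker X _ hz X' x (t ≫ i)
        show _ = _
        simpa only [MonObj.comp_mul, GrpObj.comp_inv] using h
      have h2 : Commute (x ≫ a ≫ c) (t ≫ i) := (hC.2.2 X (a ≫ c)).1 ⟨a, rfl⟩ X' x t
      have h3 := h1.mul_left h2
      rwa [inv_mul_cancel_right] at h3
    have hyl : y ≫ l = b := (cancel_mono p₁).1 (by rw [Category.assoc, hcl, hy])
    exact ⟨y.left q, by rw [← Scheme.Hom.comp_apply, ← Over.comp_left, hyl]; exact hq₁⟩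
  haveI : Surjective l.left := ⟨fun p => by
    have hop := p₂.left.isOpenMap
    let s := P.hom p
    have h₁ : IsOpen (p₂.left '' A) := hop _ l.left.isOpenEmbedding.isOpen_range
    have h₂ : IsOpen (p₂.left '' Aᶜ) := hop _ l.left.isClosedEmbedding.isClosed_range.isOpen_compl
    have hcov : C'.hom.base ⁻¹' {s} ⊆ p₂.left '' A ∪ p₂.left '' Aᶜ := fun y _ => by
      obtain ⟨p', rfl⟩ := p₂.left.surjective y
      by_cases h : p' ∈ A
      · exact Or.inl ⟨p', h, rfl⟩
      · exact Or.inr ⟨p', h, rfl⟩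
    by_contra hpA
    have hne₁ : ((C'.hom.base ⁻¹' {s}) ∩ p₂.left '' A).Nonempty := by
      refine ⟨p₂.left (l.left ((η[C]).left s)), ?_, _, ⟨_, rfl⟩, rfl⟩
      show C'.hom (p₂.left (l.left ((η[C]).left s))) = s
      rw [← Scheme.Hom.comp_apply, Over.w p₂, ← Scheme.Hom.comp_apply, Over.w l]
      show ((η[C]).left ≫ C.hom) s = s
      rw [Over.w η[C]]
      rfl
    have hne₂ : ((C'.hom.base ⁻¹' {s}) ∩ p₂.left '' Aᶜ).Nonempty := by
      refine ⟨p₂.left p, ?_, _, fun h => hpA ?_, rfl⟩
      · show C'.hom (p₂.left p) = s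
        rw [← Scheme.Hom.comp_apply, Over.w p₂]
      · obtain ⟨z, hz⟩ := h
        exact ⟨z, hz⟩
    obtain ⟨y, -, ⟨a, ha, rfl⟩, ⟨b, hb, hab⟩⟩ :=
      (isConnected_fibre_centralizer hconn hT'.2.2.1 hC' s).isPreconnected _ _ h₁ h₂ hcov hne₁ hne₂
    exact hb (hA b a hab ha)⟩
  haveI : IsIso l.left := IsOpenImmersion.isIso l.left
  haveI : IsIso ((Over.forget S).map l) := inferInstanceAs (IsIso l.left)
  haveI : IsIso l := isIso_of_reflects_iso l (Over.forget S)
  refine ⟨vC, inferInstance, ?_, ?_, IsPullback.of_iso_pullback ⟨hvC.symm⟩ (asIso l) hcl hvl⟩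
  · rw [← hvl, Over.comp_left]; infer_instance
  · rw [← hvl, Over.comp_left]; infer_instance

/-- Cartan subgroups correspond under a homomorphism with central kernel. -/
theorem cartan_correspondence (hG : SGA3x.HasMaxTorusFpqcLocally G) (u : G ⟶ G') [IsMonHom u] [Surjective u.left]
    (hconn : ∀ s : S, _root_.IsConnected (G'.hom.base ⁻¹' {s})) (hker : CentralKer u) :
    (∀ (C : Over S) [GrpObj C] (c : C ⟶ G), SGA3x.IsCartan c →
      ∃ (C' : Over S) (_ : GrpObj C') (c' : C' ⟶ G') (v : C ⟶ C'), SGA3x.IsCartan c' ∧ IsMonHom v ∧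
        Surjective v.left ∧ Flat v.left ∧ IsPullback c v u c') ∧
    (∀ (C' : Over S) [GrpObj C'] (c' : C' ⟶ G'), SGA3x.IsCartan c' →
      ∃ (C : Over S) (_ : GrpObj C) (c : C ⟶ G) (v : C ⟶ C'), SGA3x.IsCartan c ∧ IsMonHom v ∧
        Surjective v.left ∧ Flat v.left ∧ IsPullback c v u c') := by
  refine ⟨fun C _ c hc => ?_, fun C' _ c' hc' => ?_⟩
  · obtain ⟨T, _, i, hT, hC⟩ := CartanT21.exists_maxTorus_of_cartan hG hc
    obtain ⟨T', _, i', v, hT', -, hv, -, -⟩ :=
      ImTor21.exists_image_maxTorus u (fun s => surjective_map_left u _) i hT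
    obtain ⟨C', _, c', hC', -, hcar, -⟩ := CartanRel21.exists_centralizer_isCartan hT'
    obtain ⟨vC, h1, h2, h3, h4⟩ := exists_cartan_pullback u hker hconn hT hT' hv hC hC'
    exact ⟨C', inferInstance, c', vC, hcar, h1, h2, h3, h4⟩
  · have hG' : SGA3x.HasMaxTorusFpqcLocally G' := by
      obtain ⟨S', f, hf, hfs, hfc, T₀, _, i₀, hT₀⟩ := hG
      haveI : Smooth (Red.bc f G).hom := inferInstanceAs (Smooth (pullback.snd G.hom f))
      haveI : QuasiCompact (Red.bc f G).hom := inferInstanceAs (QuasiCompact (pullback.snd G.hom f))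
      haveI : IsSeparated (Red.bc f G').hom := inferInstanceAs (IsSeparated (pullback.snd G'.hom f))
      haveI : LocallyOfFiniteType (Red.bc f G').hom := inferInstanceAs (LocallyOfFiniteType (pullback.snd G'.hom f))
      haveI := isMonHom_map u f
      haveI : Surjective ((Over.pullback f).map u).left := surjective_map_left u f
      obtain ⟨T'', _, i'', -, hT'', -, -, -, -⟩ :=
        ImTor21.exists_image_maxTorus ((Over.pullback f).map u) (fun s => surjective_map_left _ _) i₀ hT₀
      exact ⟨S', f, hf, hfs, hfc, T'', inferInstance, i'', hT''⟩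
    obtain ⟨T', _, i', hT', hC'⟩ := CartanT21.exists_maxTorus_of_cartan hG' hc'
    obtain ⟨T, _, i, v, hT, -, hv, -, -⟩ := exists_preimage_maxTorus hG u hker hT'
    obtain ⟨C, _, c, hC, -, hcar, -⟩ := CartanRel21.exists_centralizer_isCartan hT
    obtain ⟨vC, h1, h2, h3, h4⟩ := exists_cartan_pullback u hker hconn hT hT' hv hC hC'
    exact ⟨C, inferInstance, c, vC, hcar, h1, h2, h3, h4⟩

end Groth.Agent.CentMT21
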