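import Groth.Agent.Lib.CentMT21.Basic
import Groth.Agent.Lib.MTConj21.Basic
import Groth.Agent.Lib.MTRigid29.TransporterSection

/-!
# Maximal tori correspond under homomorphisms with central kernel
-/

set_option autoImplicit false
set_option linter.style.haveILetI false
set_option linter.unusedSectionVars false
set_option backward.isDefEq.respectTransparency.types false

universe u

open CategoryTheory Limits MonoidalCategory CartesianMonoidalCategory MonObj AlgebraicGeometry Opposite

noncomputable section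

namespace Groth.Agent.CentMT21

open DiagGL MTRigid29 CartanT21

variable {S : Scheme.{u}} {G G' T' : Over S} [GrpObj G] [GrpObj G'] [GrpObj T']

/-- Refining a maximal torus over a chart whose image lies in a given one. -/
theorem lift_step [LocallyOfFiniteType G.hom] {U U' : Scheme.{u}} (π : U ⟶ S) (u : G ⟶ G') (i' : T' ⟶ G')
    {W : Over U} [GrpObj W] (t : W ⟶ Red.bc π G) (v : W ⟶ Red.bc π T')
    (hW : Red.IsMaximalTorus t) (hv : v ≫ (Over.pullback π).map i' = t ≫ (Over.pullback π).map u)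
    (e : U' ⟶ U) {σ : U' ⟶ S} (he : e ≫ π = σ) :
    Red.IsMaximalTorus ((Over.pullback e).map t ≫ (SpreadSub19.bcComp π e he G).hom) ∧
      ∃ v' : Red.bc e W ⟶ Red.bc σ T', v' ≫ (Over.pullback σ).map i' =
        ((Over.pullback e).map t ≫ (SpreadSub19.bcComp π e he G).hom) ≫ (Over.pullback σ).map u := by
  haveI : IsMonHom (𝟙 G) := inferInstance
  have h := isMaximalTorus_step (c := 𝟙 G) π t (by rwa [CategoryTheory.Functor.map_id, Category.comp_id]) e he
  rw [CategoryTheory.Functor.map_id, Category.comp_id] at h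
  refine ⟨h, (Over.pullback e).map v ≫ (SpreadSub19.bcComp π e he T').hom, ?_⟩
  rw [Category.assoc, ← SpreadSub19.bcComp_natural π e he i', ← Category.assoc, ← Functor.map_comp, hv,
    Functor.map_comp, Category.assoc, SpreadSub19.bcComp_natural π e he u, Category.assoc]

variable [Smooth G.hom] [IsSeparated G.hom] [QuasiCompact G.hom] [IsSeparated G'.hom] [LocallyOfFiniteType G'.hom]

set_option maxHeartbeats 1000000 in
/-- Maximal tori given locally above a given one agree. -/
theorem exists_agree (u : G ⟶ G') [IsMonHom u] [Surjective u.left] (hker : CentralKer u) {i' : T' ⟶ G'}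
    (hT' : Red.IsMaximalTorus i') {U : Scheme.{u}} (π : U ⟶ S) {W : Over U} [GrpObj W] (t : W ⟶ Red.bc π G)
    (v : W ⟶ Red.bc π T') (hW : Red.IsMaximalTorus t)
    (hv : v ≫ (Over.pullback π).map i' = t ≫ (Over.pullback π).map u)
    (Z : Over U) (p : (Over.map π).obj Z ⟶ (Over.map π).obj W) :
    ∃ y : Z ⟶ W, fl π G (y ≫ t) = p ≫ fl π G t := by
  let σ : Z.left ⟶ S := Z.hom ≫ π
  let q : Z.left ⟶ U := p.left ≫ W.hom
  have hq : q ≫ π = σ := (Category.assoc _ _ _).trans (Over.w p)
  haveI : Smooth (Red.bc σ G).hom := inferInstanceAs (Smooth (pullback.snd G.hom σ))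
  haveI : IsSeparated (Red.bc σ G).hom := inferInstanceAs (IsSeparated (pullback.snd G.hom σ))
  haveI : QuasiCompact (Red.bc σ G).hom := inferInstanceAs (QuasiCompact (pullback.snd G.hom σ))
  haveI : IsSeparated (Red.bc σ G').hom := inferInstanceAs (IsSeparated (pullback.snd G'.hom σ))
  haveI : LocallyOfFiniteType (Red.bc σ G').hom := inferInstanceAs (LocallyOfFiniteType (pullback.snd G'.hom σ))
  haveI : IsMonHom ((Over.pullback σ).map u) := isMonHom_map u σ
  haveI : Surjective ((Over.pullback σ).map u).left := surjective_map_left u σ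
  obtain ⟨hz, vz, hvz⟩ := lift_step π u i' t v hW hv Z.hom (σ := σ) rfl
  obtain ⟨hq', vq, hvq⟩ := lift_step π u i' t v hW hv q hq
  obtain ⟨φ, hφ⟩ := eq_of_same_image ((Over.pullback σ).map u) (centralKer_bc hker σ) hq' hz
    (MTExt21.isMaximalTorus_bc hT' σ) hvq hvz
  let sq : Over.mk (𝟙 Z.left) ⟶ Red.bc q W :=
    Over.homMk (pullback.lift p.left (𝟙 Z.left) (Category.id_comp q).symm) (pullback.lift_snd _ _ _)
  have hs : (sq ≫ φ.hom).left ≫ pullback.snd W.hom Z.hom = 𝟙 Z.left := Over.w (sq ≫ φ.hom)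
  let y : Z ⟶ W := Over.homMk ((sq ≫ φ.hom).left ≫ pullback.fst W.hom Z.hom) (by
    rw [Category.assoc, pullback.condition, ← Category.assoc, hs, Category.id_comp])
  refine ⟨y, Over.OverMorphism.ext ?_⟩
  have hfl : ∀ {V : Over U} (x : V ⟶ Red.bc π G), (fl π G x).left = x.left ≫ pullback.fst G.hom π := fun x => by
    simp [DiagGL.fl, Adjunction.homEquiv_counit]
  have hB : ∀ (e : Z.left ⟶ U) (he : e ≫ π = σ),
      ((Over.pullback e).map t ≫ (SpreadSub19.bcComp π e he G).hom).left ≫ pullback.fst G.hom σ =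
        pullback.fst W.hom e ≫ t.left ≫ pullback.fst G.hom π := fun e he => by
    rw [Over.comp_left, Category.assoc, SpreadSub19.bcComp_fst]
    show pullback.lift _ _ _ ≫ _ = _
    rw [pullback.lift_fst_assoc, Category.assoc]
  have h1 := congrArg (fun m => (sq ≫ m).left ≫ pullback.fst G.hom σ) hφ
  simp only [Over.comp_left, Category.assoc] at h1 hB
  rw [hB Z.hom rfl, hB q hq] at h1
  show (fl π G (y ≫ t)).left = p.left ≫ (fl π G t).left
  rw [hfl, hfl, Over.comp_left, Category.assoc]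
  show ((sq ≫ φ.hom).left ≫ pullback.fst W.hom Z.hom) ≫ t.left ≫ pullback.fst G.hom π = _
  rw [Category.assoc]
  refine h1.trans ?_
  rw [← Category.assoc, show sq.left ≫ pullback.fst W.hom q = p.left from pullback.lift_fst _ _ _]

set_option maxHeartbeats 4000000 in
/-- A maximal torus downstairs lifts along a homomorphism with central kernel. -/
theorem exists_preimage_maxTorus [Smooth G'.hom] [QuasiCompact G'.hom] (hG : SGA3x.HasMaxTorusFpqcLocally G)
    (u : G ⟶ G') [IsMonHom u] [Surjective u.left] (hker : CentralKer u) {i' : T' ⟶ G'}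
    (hT' : Red.IsMaximalTorus i') :
    ∃ (T : Over S) (_ : GrpObj T) (i : T ⟶ G) (v : T ⟶ T'), Red.IsMaximalTorus i ∧ IsMonHom v ∧
      v ≫ i' = i ≫ u ∧ Surjective v.left ∧ Flat v.left := by
  obtain ⟨S', f, hf, hfs, hfc, T₀, _, i₀, hT₀⟩ := hG
  haveI := hf
  haveI := hfs
  haveI := hT'.1
  haveI := hT'.2.1
  haveI : Smooth (Red.bc f G).hom := inferInstanceAs (Smooth (pullback.snd G.hom f))
  haveI : IsSeparated (Red.bc f G).hom := inferInstanceAs (IsSeparated (pullback.snd G.hom f))
  haveI : QuasiCompact (Red.bc f G).hom := inferInstanceAs (QuasiCompact (pullback.snd G.hom f))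
  haveI : Smooth (Red.bc f G').hom := inferInstanceAs (Smooth (pullback.snd G'.hom f))
  haveI : IsSeparated (Red.bc f G').hom := inferInstanceAs (IsSeparated (pullback.snd G'.hom f))
  haveI : QuasiCompact (Red.bc f G').hom := inferInstanceAs (QuasiCompact (pullback.snd G'.hom f))
  let u₁ := (Over.pullback f).map u
  haveI : IsMonHom u₁ := isMonHom_map u f
  haveI : Surjective u₁.left := surjective_map_left u f
  haveI : Flat u₁.left := flat_left_of_surjective u₁
  haveI : QuasiCompact u₁.left := quasiCompact_left u₁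
  haveI : LocallyOfFinitePresentation u₁.left := by
    haveI : LocallyOfFinitePresentation (u₁.left ≫ (Red.bc f G').hom) := by rw [Over.w u₁]; infer_instance
    exact SchBasic.locallyOfFinitePresentation_of_comp u₁.left (Red.bc f G').hom
  haveI := hT₀.1
  obtain ⟨T'', _, i'', v₀, hT'', -, hv₀, -, -⟩ :=
    ImTor21.exists_image_maxTorus u₁ (fun s => surjective_map_left u₁ _) i₀ hT₀
  obtain ⟨U₂, e, he, hes, g, φc, hconj⟩ := MTConj21.exists_etale_conjBy hT'' (MTExt21.isMaximalTorus_bc hT' f)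
  haveI := he
  haveI := hes
  let j₀ : Over.mk e ⟶ (Over.map e).obj (𝟙_ (Over U₂)) :=
    Over.homMk (𝟙 _) (by show 𝟙 _ ≫ 𝟙 _ ≫ e = e; simp)
  let g₀ : Over.mk e ⟶ Red.bc f G' := j₀ ≫ fl e (Red.bc f G') g
  have hpt : ∀ (X : Over S') (x : X ⟶ Over.mk e) (b : X ⟶ T''), ∃ c : X ⟶ Red.bc f T',
      (x ≫ g₀) * (b ≫ i'') * (x ≫ g₀)⁻¹ = c ≫ (Over.pullback f).map i' := by
    intro X x b
    let Y : Over U₂ := Over.mk x.left
    let eX : X ≅ (Over.map e).obj Y := Over.isoMk (Iso.refl _) ((Category.id_comp _).trans (Over.w x))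
    obtain ⟨b', hb'⟩ := fl_surjective e T'' (eX.inv ≫ b)
    refine ⟨eX.hom ≫ fl e (Red.bc f T') (b' ≫ φc.hom), ?_⟩
    have hg : fl e (Red.bc f G') (toUnit Y ≫ g) = eX.inv ≫ x ≫ g₀ := by
      rw [fl_comp]
      simp only [g₀, ← Category.assoc]
      congr 1
    have h1 := congrArg (fun m => fl e (Red.bc f G') (b' ≫ m)) hconj
    simp only [MonObj.comp_mul, GrpObj.comp_inv] at h1
    rw [← Category.assoc b' (toUnit _), toUnit_unique (b' ≫ toUnit _) (toUnit Y), fl_mul, fl_mul,
      MTRigid29.fl_inv e (Red.bc f G'), hg, fl_comp_map, hb', ← Category.assoc b' φc.hom, fl_comp_map] at h1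
    rw [Category.assoc, ← h1, MonObj.comp_mul, MonObj.comp_mul, GrpObj.comp_inv]
    simp only [Category.assoc, Iso.hom_inv_id_assoc]
  let r := pullback.fst g₀.left u₁.left
  let h : pullback g₀.left u₁.left ⟶ S' := r ≫ e
  haveI : Flat r := inferInstanceAs (Flat (pullback.fst g₀.left u₁.left))
  haveI : Surjective r := inferInstanceAs (Surjective (pullback.fst g₀.left u₁.left))
  haveI : LocallyOfFinitePresentation r := inferInstanceAs (LocallyOfFinitePresentation (pullback.fst g₀.left u₁.left))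
  haveI : Flat h := inferInstanceAs (Flat (r ≫ e))
  haveI : Surjective h := inferInstanceAs (Surjective (r ≫ e))
  haveI : LocallyOfFinitePresentation h := inferInstanceAs (LocallyOfFinitePresentation (r ≫ e))
  let p' : Over.mk h ⟶ Red.bc f G := Over.homMk (pullback.snd g₀.left u₁.left) (by
    show _ = r ≫ e
    rw [← Over.w u₁, ← Category.assoc, ← pullback.condition, Category.assoc, Over.w g₀]
    rfl)
  let rr : Over.mk h ⟶ Over.mk e := Over.homMk r rfl
  have hp' : p' ≫ u₁ = rr ≫ g₀ := Over.OverMorphism.ext pullback.condition.symm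
  obtain ⟨g₁, hg₁⟩ := exists_section_bc (G := Red.bc f G) h p'
  obtain ⟨x₁, hx₁⟩ := hg₁ (Red.bc h T₀)
  let t₁ : Red.bc h T₀ ⟶ Red.bc h (Red.bc f G) := (Over.pullback h).map i₀ ≫ (conjIso g₁).hom
  obtain ⟨c, hc⟩ := hpt _ (x₁ ≫ rr) (fl h T₀ (𝟙 _) ≫ v₀)
  obtain ⟨v₁, hv₁'⟩ := fl_surjective h (Red.bc f T') c
  have hv₁ : v₁ ≫ (Over.pullback h).map ((Over.pullback f).map i') = t₁ ≫ (Over.pullback h).map u₁ := by
    refine fl_injective h (Red.bc f G') ?_
    have e₀ : fl h (Red.bc f G) ((Over.pullback h).map i₀) = fl h T₀ (𝟙 _) ≫ i₀ := by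
      rw [← fl_comp_map, Category.id_comp]
    rw [fl_comp_map, fl_comp_map, hv₁', ← hc]
    simp only [t₁]
    rw [comp_conjIso, fl_mul, fl_mul, MTRigid29.fl_inv h (Red.bc f G), hx₁, e₀, MonObj.mul_comp, MonObj.mul_comp,
      GrpObj.inv_comp]
    simp only [Category.assoc, hp', hv₀]
  let π := h ≫ f
  haveI : Flat π := inferInstanceAs (Flat (h ≫ f))
  haveI : Surjective π := inferInstanceAs (Surjective (h ≫ f))
  have hπc : ∀ V : S.Opens, IsAffineOpen V → ∃ W : (pullback g₀.left u₁.left).Opens,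
      IsCompact (W : Set ↥(pullback g₀.left u₁.left)) ∧
        π.base '' (W : Set ↥(pullback g₀.left u₁.left)) = (V : Set S) := fun V hV => by
    obtain ⟨W, hW, hWV⟩ := hfc V hV
    obtain ⟨W', hW', hWW'⟩ := exists_compact_image' h W hW
    exact ⟨W', hW', by rw [← hWV, ← hWW', Set.image_image]; rfl⟩
  let B := SpreadSub19.bcComp f h (c := π) rfl G
  let t : Red.bc h T₀ ⟶ Red.bc π G := t₁ ≫ B.hom
  let v : Red.bc h T₀ ⟶ Red.bc π T' := v₁ ≫ (SpreadSub19.bcComp f h (c := π) rfl T').hom
  have ht : Red.IsMaximalTorus t := by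
    have h₀ := isMaximalTorus_conj (MTExt21.isMaximalTorus_bc hT₀ h) g₁
    haveI := SpreadSub19.bcComp_isMonHom f h (c := π) rfl G
    haveI := isMonHom_refl (Red.bc h T₀)
    haveI : IsMonHom B.symm.hom := inferInstanceAs (IsMonHom B.inv)
    refine MTDesc21.isMaximalTorus_transfer h₀ (Iso.refl _) B.symm _ ?_ (MTExt21.isTorus_bc hT₀.2.2.1 h)
    simp [t, t₁]
  have hv : v ≫ (Over.pullback π).map i' = t ≫ (Over.pullback π).map u := by
    simp only [t, v, B, Category.assoc]
    rw [← SpreadSub19.bcComp_natural f h rfl i', ← SpreadSub19.bcComp_natural f h rfl u, ← Category.assoc, hv₁,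
      Category.assoc]
  haveI := ht.1
  haveI := ht.2.1
  have hcov : Presieve.ofArrows (fun _ : PUnit.{u + 1} => pullback g₀.left u₁.left) (fun _ => π) ∈
      Scheme.fpqcPrecoverage S := by
    refine ⟨?_, (Scheme.ofArrows_mem_precoverage_iff @Flat).mpr
      ⟨fun s => ⟨PUnit.unit, π.surjective s⟩, fun _ => ‹Flat π›⟩⟩
    refine (Scheme.presieve₀_mem_qcPrecoverage_iff
      (E := ⟨PUnit, fun _ => pullback g₀.left u₁.left, fun _ => π⟩)).mpr ⟨fun {O} hO => ?_⟩
    obtain ⟨W, hW, hWO⟩ := hπc O hO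
    exact IsCompactOpenCovered.iff_of_unique.2 ⟨W, hW, hWO⟩
  obtain ⟨A, _, a, ham, hamono, hφA, -⟩ := MTDesc21.exists_descent_family (G := G)
    (W := fun _ : PUnit.{u + 1} => Red.bc h T₀) (fun _ => t) hcov
    (fun _ => isAffineHom_of_isMT (isMT_of_ft (TorPts21.isMultTypeFT_of_isTorus ht.2.2.1)))
    (fun _ _ Z q => exists_agree u hker hT' π t v ht hv Z q)
  haveI := ham
  haveI := hamono
  obtain ⟨φ, hφm, hφ⟩ := hφA PUnit.unit
  haveI := hφm
  have hA : Red.IsTorus A := MTDesc21.isTorus_of_bc π hπc A (isTorus_iso ht.2.2.1 φ)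
  have hmax : Red.IsMaximalTorus a := by
    refine MTExt21.isMaximalTorus_of_bc hA π ?_
    haveI := isMonHom_refl (Red.bc π G)
    refine MTDesc21.isMaximalTorus_transfer ht φ (Iso.refl _) _ ?_ (MTExt21.isTorus_bc hA π)
    rw [← hφ, Iso.refl_hom, Category.comp_id]
  let cA := pullback.fst A.hom π
  haveI : Surjective cA := inferInstanceAs (Surjective (pullback.fst A.hom π))
  haveI : EffectiveEpi cA := MTRigid29.effectiveEpi_of_cover cA (MTRigid29.cover_pullback π A.hom hπc)
  haveI : Mono i'.left := Over.mono_left_of_mono i'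
  obtain ⟨l, hl⟩ := MTRigid29.factor_of_effectiveEpi (a ≫ u).left i'.left cA
    ((φ.hom ≫ v).left ≫ pullback.fst T'.hom π) (by
      rw [Category.assoc, (isPullback_map_left π i').w, ← (isPullback_map_left π (a ≫ u)).w.symm]
      rw [← Category.assoc, ← Over.comp_left, Category.assoc, hv, ← Category.assoc, hφ, ← Functor.map_comp])
  let w : A ⟶ T' := Over.homMk l (by rw [← Over.w i', reassoc_of% hl, Over.w (a ≫ u)])
  have hw : w ≫ i' = a ≫ u := Over.OverMorphism.ext hl
  obtain ⟨hwm, hwf, hws⟩ := flat_surjective_of_factor u hmax hT' w hw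
  exact ⟨A, inferInstance, a, w, hmax, hwm, hw, hws, hwf⟩

end Groth.Agent.CentMT21
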